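import Groth.Agent.Lib.InjIndec20.Formal
import Groth.Agent.Lib.InjQCoh20.Prim
import Groth.Agent.Lib.FinCov.FrameFree
import Groth.Agent.Lib.InvExt.Transfer

/-!
# Injective modules on locally Noetherian schemes contain indecomposable injectives
-/

set_option autoImplicit false
set_option maxHeartbeats 800000
set_option linter.style.haveILetI false
set_option backward.isDefEq.respectTransparency false

universe u

open CategoryTheory CategoryTheory.Limits AlgebraicGeometry Opposite TopologicalSpace GrothLib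

namespace GrothLib.InjIndec20

variable {X : Scheme.{u}}

/-- The germ of a section, in the stalk module. -/
noncomputable abbrev gm (R : X.Modules) (W : X.Opens) (y : X) (hy : y ∈ W) (t : Γ(R, W)) : (OX.stalk y).obj R :=
  OX.germ (x := y) (DCoh.toP.obj R) W hy t

theorem gm_res (R : X.Modules) {W W' : X.Opens} (h : W' ≤ W) (y : X) (hy : y ∈ W') (t : Γ(R, W)) :
    gm R W' y hy (R.presheaf.map (homOfLE h).op t) = gm R W y (h hy) t :=
  OX.germ_map (x := y) (DCoh.toP.obj R) (homOfLE h) hy t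

theorem gm_map {R R' : X.Modules} (f : R ⟶ R') (W : X.Opens) (y : X) (hy : y ∈ W) (t : Γ(R, W)) :
    (OX.stalk y).map f (gm R W y hy t) = gm R' W y hy (f.app W t) :=
  OX.stalkPre_map_germ (DCoh.toP.map f) W hy t

/-- The set where a section does not vanish. -/
def supp (R : X.Modules) (W : X.Opens) (t : Γ(R, W)) : Set X := {y | ∃ hy : y ∈ W, gm R W y hy t ≠ 0}

theorem exists_mem_supp (R : X.Modules) {W : X.Opens} {t : Γ(R, W)} (ht : t ≠ 0) : ∃ y, y ∈ supp R W t := by
  by_contra h
  push Not at h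
  refine ht (QCoh.section_eq_zero_of_germ R t fun y hy => ?_)
  by_contra h0
  exact h y ⟨hy, h0⟩

theorem exists_res_eq_zero (R : X.Modules) {W : X.Opens} {t : Γ(R, W)} {y : X} (hy : y ∈ W)
    (h : gm R W y hy t = 0) : ∃ (W' : X.Opens) (hW : W' ≤ W), y ∈ W' ∧ R.presheaf.map (homOfLE hW).op t = 0 := by
  obtain ⟨W', hyW', i₁, i₂, he⟩ := TopCat.Presheaf.germ_eq R.presheaf y hy hy t 0 (h.trans (map_zero _).symm)
  exact ⟨W', i₁.le, hyW', he.trans (map_zero _)⟩

/-- Sections supported on the closure of `x` are detected at `x`. -/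
def IsGen (R : X.Modules) (x : X) : Prop :=
  ∀ (W : X.Opens) (t : Γ(R, W)), (∀ y ∈ supp R W t, x ⤳ y) → t ≠ 0 →
    ∃ hx : x ∈ W, gm R W x hx t ≠ 0

/-- A minimal support. -/
theorem exists_gen [NoetherianSpace X] (R : X.Modules) (hR : ¬ IsZero R) :
    ∃ x : X, IsGen R x ∧ ∃ (V : X.Opens) (s : Γ(R, V)),
      x ∈ supp R V s ∧ ∀ y ∈ supp R V s, x ⤳ y := by
  classical
  let 𝒮 : Set (Closeds X) := {Z | ∃ (V : X.Opens) (s : Γ(R, V)), s ≠ 0 ∧ (Z : Set X) = closure (supp R V s)}
  have hne : 𝒮.Nonempty := by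
    by_contra h
    refine hR ((OX.isZero_iff R).2 fun y => ?_)
    refine @ModuleCat.isZero_of_subsingleton _ _ _ (subsingleton_of_forall_eq 0 fun e => ?_)
    obtain ⟨V, hV, s, rfl⟩ := OX.germ_exists (DCoh.toP.obj R) e
    by_contra h0
    exact h ⟨⟨closure (supp R V s), isClosed_closure⟩, V, s, fun hs => h0 ((congrArg _ hs).trans (map_zero _)), rfl⟩
  obtain ⟨Z, ⟨V, s, hs, hZ⟩, hmin⟩ := (wellFounded_lt (α := Closeds X)).has_min 𝒮 hne
  have hmin' : ∀ (W : X.Opens) (t : Γ(R, W)), t ≠ 0 → supp R W t ⊆ Z → closure (supp R W t) = Z := by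
    intro W t ht hle
    have h1 : (⟨closure (supp R W t), isClosed_closure⟩ : Closeds X) ≤ Z := closure_minimal hle Z.isClosed
    rcases h1.lt_or_eq with h | h
    · exact absurd h (hmin _ ⟨W, t, ht, rfl⟩)
    · exact congrArg SetLike.coe h
  have hirr : IsIrreducible (Z : Set X) := by
    refine ⟨?_, isPreirreducible_iff_isClosed_union_isClosed.2 fun A B hA hB hAB => ?_⟩
    · obtain ⟨y, hy⟩ := exists_mem_supp R hs
      exact ⟨y, hZ.symm ▸ subset_closure hy⟩
    · by_contra! hc
      let W : X.Opens := V ⊓ ⟨Bᶜ, hB.isOpen_compl⟩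
      let t := R.presheaf.map (homOfLE (inf_le_left : W ≤ V)).op s
      have hsub : supp R W t ⊆ supp R V s ∩ A := by
        rintro y ⟨hy, hy0⟩
        have hyS : y ∈ supp R V s := ⟨hy.1, fun h => hy0 ((gm_res R inf_le_left y hy s).trans h)⟩
        exact ⟨hyS, (hAB (hZ.symm ▸ subset_closure hyS)).resolve_right hy.2⟩
      have ht : t ≠ 0 := fun ht => hc.2 (by
        rw [hZ]
        refine closure_minimal (fun y hy => ?_) hB
        by_contra hyB
        obtain ⟨hyV, hy0⟩ := hy
        refine hy0 ((gm_res R (inf_le_left : W ≤ V) y ⟨hyV, hyB⟩ s).symm.trans ?_)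
        exact (congrArg (gm R W y ⟨hyV, hyB⟩) ht).trans (map_zero _))
      refine hc.1 ?_
      rw [← hmin' W t ht (fun y hy => hZ.symm ▸ subset_closure (hsub hy).1)]
      exact closure_minimal (fun y hy => (hsub hy).2) hA
  let x := hirr.genericPoint
  have hgp : IsGenericPoint x (Z : Set X) := hirr.isGenericPoint_genericPoint Z.isClosed
  have hgen : IsGen R x := by
    intro W t hsupp ht
    have hle : supp R W t ⊆ Z := fun y hy => (hsupp y hy).mem_closed Z.isClosed hgp.mem
    have hcl := hmin' W t ht hle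
    obtain ⟨y, hy⟩ := exists_mem_supp R ht
    have hxW : x ∈ W := (hsupp y hy).mem_open W.2 hy.1
    refine ⟨hxW, fun h0 => ?_⟩
    obtain ⟨W', hW', hxW', hres⟩ := exists_res_eq_zero R hxW h0
    have hxcl : x ∈ closure (supp R W t) := hcl.symm ▸ hgp.mem
    obtain ⟨z, hzW', hz⟩ := mem_closure_iff.1 hxcl W' W'.2 hxW'
    obtain ⟨hzW, hz0⟩ := hz
    exact hz0 ((gm_res R hW' z hzW' t).symm.trans ((congrArg (gm R W' z hzW') hres).trans (map_zero _)))
  have hsupp : ∀ y ∈ supp R V s, x ⤳ y := fun y hy => hgp.specializes (hZ.symm ▸ subset_closure hy)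
  obtain ⟨hxV, hx0⟩ := hgen V s hsupp hs
  exact ⟨x, hgen, V, s, ⟨hxV, hx0⟩, hsupp⟩

/-- A global section with prime annihilator at the generic point of its support gives a skyscraper summand. -/
theorem exists_mono_sky (R : X.Modules) [Injective R] (x : X) [IsNoetherianRing (X.presheaf.stalk x)]
    (hgen : IsGen R x) (s : Γ(R, ⊤)) (hsupp : ∀ y ∈ supp R ⊤ s, x ⤳ y)
    (P : Ideal (X.presheaf.stalk x)) [P.IsPrime]
    (hP : ∀ c : X.presheaf.stalk x, c ∈ P ↔ c • gm R ⊤ x trivial s = 0) :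
    ∃ (J : X.Modules) (σ : J ⟶ R), Mono σ ∧ Injective J ∧ ¬ IsZero J ∧ Indec J := by
  let A := X.presheaf.stalk x
  let m : (OX.stalk x).obj R := gm R ⊤ x trivial s
  obtain ⟨E, _, _, h, hh⟩ := InjMod.exists_injective_hull (R := A) (A ⧸ P)
  let E' : ModuleCat.{u} A := ModuleCat.of A E
  haveI : Injective E' := Module.injective_object_of_injective_module A E (inj := hh.isInjective)
  let inc : ModuleCat.of A (A ⧸ P) ⟶ (OX.stalk x).obj R :=
    ModuleCat.ofHom (X := A ⧸ P) (Y := (OX.stalk x).obj R)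
      (Submodule.liftQ P (LinearMap.toSpanSingleton A ((OX.stalk x).obj R) m) fun c hc => (hP c).1 hc)
  have hinc : ∀ c : A, inc (Submodule.Quotient.mk c : A ⧸ P) = c • m := fun c => rfl
  haveI : Mono inc := (ModuleCat.mono_iff_injective _).2 ((injective_iff_map_eq_zero _).2 fun q hq => by
    obtain ⟨c, rfl⟩ := Submodule.Quotient.mk_surjective _ q
    exact (Submodule.Quotient.mk_eq_zero _).2 ((hP c).2 ((hinc c).symm.trans hq)))
  let π₀ : (OX.stalk x).obj R ⟶ E' := Injective.factorThru (ModuleCat.ofHom h : ModuleCat.of A (A ⧸ P) ⟶ E') inc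
  have hπ₀ : ∀ c : A, π₀ (c • m) = h (Submodule.Quotient.mk c) := fun c => by
    rw [← hinc]
    exact ConcreteCategory.congr_hom (Injective.comp_factorThru (ModuleCat.ofHom h) inc) _
  let adj := OX.stalkSkyAdj (X := X) x
  let J : X.Modules := (OX.sky x).obj E'
  haveI : Injective J := InjSky20.injective_sky x E'
  let f : Coh.structureModule X ⟶ R := FinCov.homOfSection s
  let π : R ⟶ J := adj.homEquiv R E' π₀
  let g : Coh.structureModule X ⟶ J := f ≫ π
  -- the stalk of the structure module at `x` is spanned by one germ, mapped to `m`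
  have hfr : ∀ (W : X.Opens) (r : Γ(X, W)), f.app W (show Γ(Coh.structureModule X, W) from r) =
      r • R.presheaf.map (homOfLE (le_top : W ≤ ⊤)).op s := fun W r => by
    rw [← FinCov.smul_one W (show Γ(Coh.structureModule X, W) from r), Scheme.Modules.Hom.app_smul,
      FinCov.homOfSection_one]
    exact congrArg (fun a : Γ(X, W) => a • R.presheaf.map (homOfLE (le_top : W ≤ ⊤)).op s)
      (FinCov.smul_one W (show Γ(Coh.structureModule X, W) from r)).symm
  have hπ_counit : (OX.stalk x).map π ≫ adj.counit.app E' = π₀ :=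
    (adj.homEquiv_counit _ _ _).symm.trans ((adj.homEquiv R E').symm_apply_apply π₀)
  haveI := isIso_counit_sky x E'
  have hval : ∀ (W : X.Opens) (hx : x ∈ W) (t : Γ(R, W)),
      π.app W t = 0 → π₀ (gm R W x hx t) = 0 := fun W hx t ht => by
    rw [← hπ_counit, ConcreteCategory.comp_apply, gm_map, ht]
    exact (congrArg _ (map_zero _)).trans (map_zero _)
  have hker : kernel.ι g ≫ f = 0 := by
    refine (OX.eq_zero_iff _).2 fun y => ModuleCat.hom_ext (LinearMap.ext fun z => ?_)
    rw [Functor.map_comp]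
    obtain ⟨W, hy, k, rfl⟩ := OX.germ_exists (DCoh.toP.obj (kernel g)) z
    let r : Γ(Coh.structureModule X, W) := (kernel.ι g).app W k
    have hr : g.app W r = 0 := by
      show g.app W ((kernel.ι g).app W k) = 0
      rw [← ConcreteCategory.comp_apply, ← Scheme.Modules.Hom.comp_app, kernel.condition]
      rfl
    show (OX.stalk y).map f ((OX.stalk y).map (kernel.ι g) (gm (kernel g) W y hy k)) = 0
    rw [gm_map, gm_map]
    by_contra h0
    have ht : f.app W r ≠ 0 := fun e => h0 ((congrArg (gm R W y hy) e).trans (map_zero _))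
    obtain ⟨hxW, hx0⟩ := hgen W (f.app W r) (fun z hz => by
      obtain ⟨hzW, hz0⟩ := hz
      refine hsupp z ⟨trivial, fun h1 => hz0 ?_⟩
      rw [hfr W r]
      refine (OX.germ_smul' (x := z) (DCoh.toP.obj R) W hzW r _).trans ?_
      exact (congrArg (_ • ·) ((gm_res R le_top z hzW s).trans h1)).trans (smul_zero _)) ht
    refine hx0 ?_
    have e1 : gm R W x hxW (f.app W r) = X.presheaf.germ W x hxW (show Γ(X, W) from r) • m := by
      rw [hfr W r]
      refine (OX.germ_smul' (x := x) (DCoh.toP.obj R) W hxW r _).trans ?_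
      exact congrArg (_ • ·) (gm_res R le_top x hxW s)
    have e2 : π₀ (gm R W x hxW (f.app W r)) = 0 := hval W hxW _ (by
      rw [← ConcreteCategory.comp_apply, ← Scheme.Modules.Hom.comp_app]; exact hr)
    rw [e1, hπ₀, map_eq_zero_iff h hh.injective, Submodule.Quotient.mk_eq_zero] at e2
    rw [e1]
    exact (hP _).1 e2
  let h' : Abelian.image g ⟶ R := Abelian.epiDesc (Abelian.factorThruImage g) f (by
    have : kernel.ι (Abelian.factorThruImage g) ≫ g = 0 := by
      refine (congrArg (kernel.ι (Abelian.factorThruImage g) ≫ ·) (Abelian.image.fac g)).symm.trans ?_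
      rw [kernel.condition_assoc, zero_comp]
    rw [← kernel.lift_ι g _ this, Category.assoc, hker, comp_zero])
  let σ : J ⟶ R := Injective.factorThru h' (Abelian.image.ι g)
  have hσ : g ≫ σ = f := by
    refine (congrArg (· ≫ σ) (Abelian.image.fac g)).symm.trans ?_
    rw [Category.assoc, Injective.comp_factorThru]
    exact Abelian.comp_epiDesc _ _ _
  let φ : E' ⟶ E' := inv (adj.counit.app E') ≫ (OX.stalk x).map (σ ≫ π) ≫ adj.counit.app E'
  have hφ : σ ≫ π = (OX.sky x).map φ := by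
    apply (adj.homEquiv J E').symm.injective
    rw [adj.homEquiv_counit, adj.homEquiv_counit]
    refine Eq.trans ?_ (adj.counit.naturality φ).symm
    simp [φ]
  have hg : (OX.stalk x).map g ≫ adj.counit.app E' ≫ φ = (OX.stalk x).map g ≫ adj.counit.app E' := by
    have h1 : g ≫ (σ ≫ π) = g := by rw [← Category.assoc, hσ]
    conv_rhs => rw [← h1, Functor.map_comp, Category.assoc]
    simp [φ]
  have hfix : ∀ c : A, φ (h (Submodule.Quotient.mk c) : E') = (h (Submodule.Quotient.mk c) : E') := fun c => by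
    have h1 : φ (h (Submodule.Quotient.mk 1) : E') = (h (Submodule.Quotient.mk 1) : E') := by
      have h2 : ((OX.stalk x).map g ≫ adj.counit.app E')
          (gm (Coh.structureModule X) ⊤ x trivial (FinCov.one X ⊤)) = h (Submodule.Quotient.mk 1) := by
        rw [Functor.map_comp, Category.assoc, hπ_counit, ConcreteCategory.comp_apply, gm_map,
          FinCov.homOfSection_one]
        refine Eq.trans (congrArg π₀ ?_) (hπ₀ 1)
        rw [one_smul]
        exact gm_res R le_rfl x (show x ∈ (⊤ : X.Opens) from trivial) s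
      rw [← h2]
      exact ConcreteCategory.congr_hom hg _
    rw [show (Submodule.Quotient.mk c : A ⧸ P) = c • Submodule.Quotient.mk 1 by
      rw [← Submodule.Quotient.mk_smul, smul_eq_mul, mul_one], map_smul]
    exact (φ.hom.map_smul c _).trans (congrArg (c • ·) h1)
  have hφm : Mono φ := (ModuleCat.mono_iff_injective φ).2 ((injective_iff_map_eq_zero _).2 fun e he => by
    by_contra he0
    obtain ⟨v, ⟨hv1, q, rfl⟩, hv0⟩ := Submodule.exists_mem_ne_zero_of_ne_bot
      (hh.essential (Submodule.span A {e}) (by rwa [Ne, Submodule.span_singleton_eq_bot]))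
    obtain ⟨a, ha⟩ := Submodule.mem_span_singleton.1 hv1
    obtain ⟨c, rfl⟩ := Submodule.Quotient.mk_surjective _ q
    refine hv0 ((hfix c).symm.trans ?_)
    rw [← ha]
    exact (φ.hom.map_smul a e).trans ((congrArg (a • ·) he).trans (smul_zero a)))
  haveI := hφm
  haveI : (OX.sky (X := X) x).PreservesMonomorphisms := Functor.preservesMonomorphisms_of_adjunction adj
  haveI : Mono (σ ≫ π) := hφ ▸ inferInstance
  haveI := hh.isInjective
  refine ⟨J, σ, mono_of_mono σ π, inferInstance, fun hJ => ?_,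
    indec_sky x E (InjMod.hull_quotient_prime_indecomposable P hh)⟩
  have h0 : IsZero E' := ((OX.stalk x).map_isZero hJ).of_iso (asIso (adj.counit.app E')).symm
  have hE := ModuleCat.subsingleton_of_isZero h0
  haveI := (InjMod.hull_quotient_prime_indecomposable P hh).1
  exact not_subsingleton E hE

theorem gm_restrict {V : Scheme.{u}} (j : V ⟶ X) [IsOpenImmersion j] (R : X.Modules) (W : V.Opens) (y : V)
    (hy : y ∈ W) (t : Γ((Scheme.Modules.restrictFunctor j).obj R, W)) :
    gm ((Scheme.Modules.restrictFunctor j).obj R) W y hy t = 0 ↔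
      gm R (j ''ᵁ W) (j y) ⟨y, hy, rfl⟩ t = 0 := by
  let e := ((Scheme.Modules.restrictStalkNatIso j y).app R).addCommGroupIsoToAddEquiv
  have h : e (((Scheme.Modules.restrictFunctor j).obj R).presheaf.germ W y hy t) =
      R.presheaf.germ (j ''ᵁ W) (j y) ⟨y, hy, rfl⟩ t :=
    ConcreteCategory.congr_hom (Scheme.Modules.germ_restrictStalkNatIso_hom_app j y R hy) t
  exact ⟨fun h0 => h.symm.trans ((congrArg e h0).trans (map_zero e)),
    fun h0 => e.injective (h.trans (h0.trans (map_zero e).symm))⟩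

theorem gm_restrict_res {V : Scheme.{u}} (j : V ⟶ X) [IsOpenImmersion j] (R : X.Modules) {W W' : V.Opens}
    (h : W' ≤ W) (y : V) (hy : y ∈ W') (t : Γ((Scheme.Modules.restrictFunctor j).obj R, W)) :
    gm R (j ''ᵁ W') (j y) ⟨y, hy, rfl⟩
        (((Scheme.Modules.restrictFunctor j).obj R).presheaf.map (homOfLE h).op t) =
      gm R (j ''ᵁ W) (j y) ⟨y, h hy, rfl⟩ t :=
  gm_res R (j.image_mono h) (j y) ⟨y, hy, rfl⟩ t

/-- A nonzero injective module contains a nonzero indecomposable injective module. -/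
theorem exists_indec [IsLocallyNoetherian X] (R : X.Modules) [Injective R] (hR : ¬ IsZero R) :
    ∃ (J : X.Modules) (σ : J ⟶ R), Mono σ ∧ Injective J ∧ ¬ IsZero J ∧ Indec J := by
  classical
  -- pass to an affine open where `R` is nonzero
  obtain ⟨U, hU, hRU⟩ : ∃ U : X.Opens, IsAffineOpen U ∧
      ¬ IsZero ((Scheme.Modules.restrictFunctor U.ι).obj R) := by
    by_contra! h
    refine hR ((OX.isZero_iff R).2 fun y => ?_)
    obtain ⟨U, hU, hy, -⟩ := exists_isAffineOpen_mem_and_subset (x := y) (U := ⊤) trivial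
    have := ((OX.isZero_iff _).1 (h U hU)) ⟨y, hy⟩
    refine @ModuleCat.isZero_of_subsingleton _ _ _ ?_
    have := ModuleCat.subsingleton_of_isZero this
    exact @Equiv.subsingleton _ _
      ((Scheme.Modules.restrictStalkNatIso U.ι ⟨y, hy⟩).app R).addCommGroupIsoToAddEquiv.symm.toEquiv this
  haveI : IsAffine (U : Scheme.{u}) := hU
  haveI : IsLocallyNoetherian (U : Scheme.{u}) := isLocallyNoetherian_of_isOpenImmersion U.ι
  haveI : IsNoetherian (U : Scheme.{u}) := {}
  let RU := (Scheme.Modules.restrictFunctor U.ι).obj R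
  haveI : Injective RU := HomRestrict20.injective_restrictFunctor U.ι R ‹_›
  obtain ⟨x, hgen, V₀, s₀, ⟨hxV₀, hs₀⟩, hsupp₀⟩ := exists_gen RU hRU
  -- a multiple with prime annihilator at `x`
  let S : Submodule ((U : Scheme.{u}).presheaf.stalk x) ((OX.stalk x).obj RU) :=
    Submodule.span _ {gm RU V₀ x hxV₀ s₀}
  have hS : (⟨gm RU V₀ x hxV₀ s₀, Submodule.mem_span_singleton_self _⟩ : S) ≠ 0 :=
    fun h => hs₀ (congrArg Subtype.val h)
  obtain ⟨P, hP, -⟩ := exists_le_isAssociatedPrime_of_isNoetherianRing (R := (U : Scheme.{u}).presheaf.stalk x) (M := S) _ hS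
  rw [isAssociatedPrime_iff] at hP
  obtain ⟨hPp, ⟨v, hv⟩, hPv⟩ := hP
  obtain ⟨c, rfl⟩ := Submodule.mem_span_singleton.1 hv
  obtain ⟨V₁, hxV₁, r, rfl⟩ := TopCat.Presheaf.exists_germ_eq (U : Scheme.{u}).presheaf c
  let V := V₀ ⊓ V₁
  let s : Γ(RU, V) := (U : Scheme.{u}).presheaf.map (homOfLE (inf_le_right : V ≤ V₁)).op r •
    RU.presheaf.map (homOfLE (inf_le_left : V ≤ V₀)).op s₀
  have hsz : ∀ (z : (U : Scheme.{u})) (hz : z ∈ V), gm RU V z hz s =
      (U : Scheme.{u}).presheaf.germ V₁ z hz.2 r • gm RU V₀ z hz.1 s₀ := fun z hz => by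
    refine (OX.germ_smul' (x := z) (DCoh.toP.obj RU) V hz _ _).trans ?_
    exact congrArg₂ (· • ·) (TopCat.Presheaf.germ_res_apply _ (homOfLE inf_le_right) z hz r) (gm_res RU inf_le_left z hz s₀)
  -- restrict to `V`
  let j := V.ι
  let RV := (Scheme.Modules.restrictFunctor j).obj RU
  haveI : Injective RV := HomRestrict20.injective_restrictFunctor j RU ‹_›
  let xV : (V : Scheme.{u}) := ⟨x, hxV₀, hxV₁⟩
  have hgen' : IsGen RV xV := by
    intro W t hsupp ht
    obtain ⟨⟨z, hzW, hzx⟩, hx0⟩ := hgen (j ''ᵁ W) t (fun y hy => by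
      obtain ⟨⟨z, hz, rfl⟩, hy0⟩ := hy
      exact (hsupp z ⟨hz, fun h => hy0 ((gm_restrict j RU W z hz t).1 h)⟩).map j.continuous) ht
    obtain rfl : z = xV := Subtype.ext hzx
    exact ⟨hzW, fun h => hx0 ((gm_restrict j RU W xV hzW t).1 h)⟩
  have hle : j ''ᵁ ⊤ ≤ V := (Scheme.Opens.ι_image_top V).le
  let sV : Γ(RV, ⊤) := RU.presheaf.map (homOfLE hle).op s
  have hsV : ∀ (z : (V : Scheme.{u})), gm RU (j ''ᵁ ⊤) (j z) ⟨z, trivial, rfl⟩ sV = gm RU V z.1 z.2 s :=
    fun z => gm_res RU hle (j z) ⟨z, trivial, rfl⟩ s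
  have hsuppV : ∀ y ∈ supp RV ⊤ sV, xV ⤳ y := by
    rintro y ⟨hy, hy0⟩
    refine (subtype_specializes_iff _ _).2 (hsupp₀ y.1 ⟨y.2.1, fun h => hy0 ((gm_restrict j RU ⊤ y hy sV).2 ?_)⟩)
    rw [hsV, hsz y.1 y.2, h, smul_zero]
  -- transport the annihilator
  let eR := ((Scheme.Modules.restrictStalkNatIso j xV).app RU).addCommGroupIsoToAddEquiv
  let eO : (V : Scheme.{u}).presheaf.stalk xV ≃+* (U : Scheme.{u}).presheaf.stalk x :=
    (Scheme.Opens.stalkIso V xV).commRingCatIsoToRingEquiv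
  haveI : (P.comap eO.toRingHom).IsPrime := Ideal.IsPrime.comap _
  have hPV : ∀ d, d ∈ P.comap eO.toRingHom ↔ d • gm RV ⊤ xV trivial sV = 0 := fun d => by
    obtain ⟨W, hW, a, rfl⟩ := TopCat.Presheaf.exists_germ_eq (V : Scheme.{u}).presheaf d
    let sW : Γ(RV, W) := RV.presheaf.map (homOfLE (le_top : W ≤ ⊤)).op sV
    have e1 : gm RV W xV hW (a • sW) = (V : Scheme.{u}).presheaf.germ W xV hW a • gm RV ⊤ xV trivial sV :=
      (OX.germ_smul' (x := xV) (DCoh.toP.obj RV) W hW a sW).trans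
        (congrArg (_ • ·) (gm_res RV le_top xV hW sV))
    have heO : eO ((V : Scheme.{u}).presheaf.germ W xV hW a) =
        (U : Scheme.{u}).presheaf.germ (j ''ᵁ W) x ⟨xV, hW, rfl⟩ a :=
      ConcreteCategory.congr_hom (Scheme.Opens.germ_stalkIso_hom V xV hW) a
    have hsm : (a • sW : Γ(RV, W)) =
        (show Γ((U : Scheme.{u}), j ''ᵁ W) from a) • (show Γ(RU, j ''ᵁ W) from sW) := by
      rw [InvExt.restrict_smul, Scheme.Opens.ι_appIso]
      rfl
    have e2 : gm RU (j ''ᵁ W) x ⟨xV, hW, rfl⟩ (a • sW) =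
        eO ((V : Scheme.{u}).presheaf.germ W xV hW a) • gm RU V x xV.2 s := by
      rw [heO, hsm]
      refine (OX.germ_smul' (x := x) (DCoh.toP.obj RU) (j ''ᵁ W) ⟨xV, hW, rfl⟩ _ _).trans ?_
      refine congrArg (_ • ·) ?_
      exact (gm_restrict_res j RU le_top xV hW sV).trans (hsV xV)
    rw [← e1, gm_restrict j RU W xV hW (a • sW), Ideal.mem_comap, hPv, Submodule.mem_colon_singleton,
      Submodule.mem_bot]
    refine ⟨fun h => e2.trans ?_, fun h => Subtype.ext ?_⟩
    · rw [hsz x xV.2]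
      exact congrArg Subtype.val h
    · refine Eq.trans ?_ (e2.symm.trans h)
      rw [hsz x xV.2]
      rfl
  obtain ⟨J, σ, hσ, hJi, hJ0, hJind⟩ := exists_mono_sky RV xV hgen' sV hsuppV _ hPV
  haveI := hσ
  haveI := hJi
  obtain ⟨σ₁, hσ₁⟩ := InjQCoh20.exists_mono_push j J RU σ
  haveI := hσ₁
  let J₁ := (Scheme.Modules.pushforward j).obj J
  haveI : Injective J₁ := InjSky20.injective_pushforward_of_flat j J
  obtain ⟨σ₂, hσ₂⟩ := InjQCoh20.exists_mono_push U.ι J₁ R σ₁
  have hind₁ : Indec J₁ := indec_obj_of_adjunction (Scheme.Modules.restrictAdjunction j) J hJind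
  refine ⟨(Scheme.Modules.pushforward U.ι).obj J₁, σ₂, hσ₂, InjSky20.injective_pushforward_of_flat U.ι J₁,
    fun hz => hJ0 ?_, indec_obj_of_adjunction (Scheme.Modules.restrictAdjunction U.ι) J₁ hind₁⟩
  have hz₁ : IsZero J₁ := ((Scheme.Modules.restrictFunctor U.ι).map_isZero hz).of_iso
    (asIso ((Scheme.Modules.restrictAdjunction U.ι).counit.app J₁)).symm
  exact ((Scheme.Modules.restrictFunctor j).map_isZero hz₁).of_iso
    (asIso ((Scheme.Modules.restrictAdjunction j).counit.app J)).symm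

end GrothLib.InjIndec20
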