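import Groth.Agent.Lib.InjSky20.Basic
import Groth.Agent.Lib.InjMod.Noetherian
import Mathlib.CategoryTheory.Abelian.Exact

/-!
# Indecomposable skyscrapers and indecomposability along fully faithful right adjoints
-/

set_option autoImplicit false
set_option maxHeartbeats 400000
set_option linter.style.haveILetI false
set_option backward.isDefEq.respectTransparency false

universe v u v' u'

open CategoryTheory CategoryTheory.Limits AlgebraicGeometry

namespace GrothLib.InjIndec20

section Generic

variable {A : Type u} [Category.{v} A] [Abelian A] {B : Type u'} [Category.{v'} B] [Abelian B]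
  {F : A ⥤ B} {G : B ⥤ A} (adj : F ⊣ G)

/-- No decomposition into two nonzero summands. -/
def Indec {C : Type*} [Category C] [Preadditive C] [HasBinaryBiproducts C] (N : C) : Prop :=
  ∀ P Q : C, Nonempty (N ≅ P ⊞ Q) → IsZero P ∨ IsZero Q

theorem indec_obj_of_adjunction (N : B) [IsIso (adj.counit.app N)] (hN : Indec N) : Indec (G.obj N) := by
  rintro P Q ⟨e⟩
  haveI : F.PreservesZeroMorphisms :=
    haveI : F.IsLeftAdjoint := adj.isLeftAdjoint
    inferInstance
  haveI : PreservesColimitsOfShape (Discrete WalkingPair) F := adj.leftAdjoint_preservesColimits.preservesColimitsOfShape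
  haveI : PreservesBinaryBiproduct P Q F := preservesBinaryBiproduct_of_preservesBinaryCoproduct F
  have key : ∀ (T : A) (i : T ⟶ G.obj N), Mono i → IsZero (F.obj T) → IsZero T := fun T i hi hT => by
    haveI := hi
    have h : ∀ k : T ⟶ G.obj N, k = i := fun k => (adj.homEquiv T N).symm.injective (hT.eq_of_src _ _)
    exact IsZero.of_mono_eq_zero i (h 0).symm
  exact (hN (F.obj P) (F.obj Q) ⟨(asIso (adj.counit.app N)).symm ≪≫ F.mapIso e ≪≫ F.mapBiprod P Q⟩).imp
    (key P (biprod.inl ≫ e.inv) inferInstance) (key Q (biprod.inr ≫ e.inv) inferInstance)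

end Generic

theorem indec_moduleCat {R : Type u} [CommRing R] (E : Type u) [AddCommGroup E] [Module R E]
    (hE : InjHull.IsIndecomposable R E) : Indec (ModuleCat.of R E) := by
  rintro P Q ⟨e⟩
  let a : P ⟶ ModuleCat.of R E := biprod.inl ≫ e.inv
  let b : Q ⟶ ModuleCat.of R E := biprod.inr ≫ e.inv
  let a' : ModuleCat.of R E ⟶ P := e.hom ≫ biprod.fst
  let b' : ModuleCat.of R E ⟶ Q := e.hom ≫ biprod.snd
  have haa : a ≫ a' = 𝟙 P := by simp [a, a']
  have hba : b ≫ a' = 0 := by simp [b, a']
  have htot : a' ≫ a + b' ≫ b = 𝟙 _ := by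
    simp only [a, b, a', b', Category.assoc]
    rw [← Preadditive.comp_add, ← Category.assoc biprod.fst, ← Category.assoc biprod.snd, ← Preadditive.add_comp,
      biprod.total, Category.id_comp, e.hom_inv_id]
  have hc : IsCompl (LinearMap.range a.hom) (LinearMap.range b.hom) := by
    refine IsCompl.of_eq ((Submodule.eq_bot_iff _).2 ?_) ((Submodule.eq_top_iff').2 fun v => ?_)
    · rintro v ⟨⟨p, rfl⟩, q, hq⟩
      have h1 : a'.hom (b.hom q) = 0 := congrArg (fun k => k.hom q) hba
      rw [hq] at h1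
      have h2 : a'.hom (a.hom p) = p := congrArg (fun k => k.hom p) haa
      rw [← h2, h1, map_zero]
    · exact Submodule.mem_sup.2 ⟨_, ⟨a'.hom v, rfl⟩, _, ⟨b'.hom v, rfl⟩, congrArg (fun k => k.hom v) htot⟩
  rcases hE.2 _ _ hc with h | h
  · exact Or.inl (IsZero.of_mono_eq_zero a (ModuleCat.hom_ext (LinearMap.range_eq_bot.1 h)))
  · exact Or.inr (IsZero.of_mono_eq_zero b (ModuleCat.hom_ext (LinearMap.range_eq_bot.1 h)))

/-- Skyscrapers have the given stalk. -/
theorem isIso_counit_sky {X : Scheme.{u}} (x : X) (N : ModuleCat.{u} (X.presheaf.stalk x)) :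
    IsIso ((OX.stalkSkyAdj x).counit.app N) := by
  rw [ConcreteCategory.isIso_iff_bijective]
  have hev : ∀ (U : X.Opens) (hx : x ∈ U) (m : (DCoh.toP.obj ((OX.sky x).obj N)).obj (Opposite.op U)),
      (OX.stalkSkyAdj x).counit.app N (OX.germ (DCoh.toP.obj ((OX.sky x).obj N)) U hx m) = m ⟨hx⟩ :=
    fun U hx m => by
    have h0 : (OX.stalkSkyAdj x).counit.app N =
        ((OX.stalkSkyAdj x).homEquiv ((OX.sky x).obj N) N).symm (𝟙 _) := by
      rw [Adjunction.homEquiv_counit, CategoryTheory.Functor.map_id, Category.id_comp]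
    rw [h0, OX.stalkSkyAdj, Adjunction.mkOfHomEquiv_homEquiv]
    simp only [Equiv.symm_trans_apply, Equiv.symm_symm, OX.stalkSkyPreAdj, Adjunction.mkOfHomEquiv_homEquiv]
    exact OX.stalkDesc_germ (x := x) (N := N) (DCoh.toP.map (𝟙 ((OX.sky x).obj N))) U hx m
  refine ⟨(injective_iff_map_eq_zero _).2 fun z hz => ?_, fun n => ⟨OX.germ (DCoh.toP.obj ((OX.sky x).obj N)) ⊤
    trivial (fun _ => n), hev ⊤ trivial _⟩⟩
  obtain ⟨U, hx, m, rfl⟩ := OX.germ_exists (DCoh.toP.obj ((OX.sky x).obj N)) z
  rw [hev] at hz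
  rw [show m = 0 from funext fun _ => hz, map_zero]

/-- The skyscraper of an indecomposable module is indecomposable. -/
theorem indec_sky {X : Scheme.{u}} (x : X) (E : Type u) [AddCommGroup E] [Module (X.presheaf.stalk x) E]
    (hE : InjHull.IsIndecomposable (X.presheaf.stalk x) E) : Indec ((OX.sky x).obj (ModuleCat.of _ E)) :=
  haveI := isIso_counit_sky x (ModuleCat.of (X.presheaf.stalk x) E)
  indec_obj_of_adjunction (OX.stalkSkyAdj x) _ (indec_moduleCat E hE)

end GrothLib.InjIndec20
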